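import Groth.Agent.LefZero.Inverse
import Groth.Agent.FlatDepth.CMTensor
import Groth.Agent.FlatDepth.Serre
import Groth.Agent.S0320
import Groth.Agent.CMFlat.RegImm

/-!
Depth of an effective Cartier divisor at its points.
-/

set_option autoImplicit false
set_option linter.style.haveILetI false
set_option backward.isDefEq.respectTransparency false
set_option backward.isDefEq.respectTransparency.types false

universe u

open CategoryTheory CategoryTheory.Limits AlgebraicGeometry TopologicalSpace IsLocalRing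

noncomputable section

namespace Groth.Agent.LefZero

theorem depth_quot_regular {A : Type u} [CommRing A] [IsNoetherianRing A] [IsLocalRing A] {t : A} {n : ℕ}
    (ht : t ∈ maximalIdeal A) (hreg : IsSMulRegular A t) [IsLocalRing (A ⧸ Ideal.span {t})]
    (h : ((n + 1 : ℕ) : ℕ∞) ≤ LocCoh.depth A A) :
    (n : ℕ∞) ≤ LocCoh.depth (A ⧸ Ideal.span {t}) (A ⧸ Ideal.span {t}) := by
  have hIM : maximalIdeal A • (⊤ : Submodule A A) ≠ ⊤ :=
    (Submodule.top_ne_ideal_smul_of_le_jacobson_annihilator (maximalIdeal_le_jacobson _)).symm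
  have h1 := S0320.result A (maximalIdeal A) A hIM t ht hreg
  let g : QuotSMulTop t A ≃ₗ[A] A ⧸ Ideal.span {t} :=
    Submodule.quotEquivOfEq _ _ (by rw [← Submodule.ideal_span_singleton_smul, smul_eq_mul, Ideal.mul_top])
  have h2 : LocCoh.depth A (QuotSMulTop t A) = LocCoh.depth A (A ⧸ Ideal.span {t}) := LocH.idealDepth_congr g _
  change LocCoh.depth A (QuotSMulTop t A) + 1 = LocCoh.depth A A at h1
  rw [FlatDepth.depth_quotient_ring (Ideal.span {t}) (A ⧸ Ideal.span {t}), ← h2]
  rw [← h1, Nat.cast_add, Nat.cast_one] at h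
  exact (ENat.add_le_add_iff_right ENat.one_ne_top).1 h

/-- The depth drops by at most one on an effective Cartier divisor. -/
theorem le_depth_stalk_cartier {X : Scheme.{u}} [IsLocallyNoetherian X] (I : X.IdealSheafData)
    (hI : BlowUp.IsEffCartierIdeal I) (y : I.subscheme) {n : ℕ}
    (h : ((n + 1 : ℕ) : ℕ∞) ≤ LocCoh.depth (X.presheaf.stalk (I.subschemeι y)) (X.presheaf.stalk (I.subschemeι y))) :
    (n : ℕ∞) ≤ LocCoh.depth (I.subscheme.presheaf.stalk y) (I.subscheme.presheaf.stalk y) := by
  obtain ⟨U, hxU, c, hc, hcI⟩ := hI (I.subschemeι y)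
  let x := I.subschemeι y
  let t : X.presheaf.stalk x := (X.presheaf.germ U.1 x hxU).hom c
  have hreg : IsSMulRegular (X.presheaf.stalk x) t := by
    letI := (X.presheaf.germ U.1 x hxU).hom.toAlgebra
    haveI := U.2.isLocalization_stalk ⟨x, hxU⟩
    have ht : t ∈ nonZeroDivisors (X.presheaf.stalk x) :=
      IsLocalization.map_nonZeroDivisors_le (U.2.primeIdealOf ⟨x, hxU⟩).asIdeal.primeCompl (X.presheaf.stalk x)
        ⟨c, hc, rfl⟩
    exact IsSMulRegular.of_right_eq_zero_of_smul fun a ha =>
      (mem_nonZeroDivisors_iff.1 ht).1 a (by rwa [smul_eq_mul] at ha)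
  have hker : RingHom.ker (I.subschemeι.stalkMap y).hom = Ideal.span {t} := by
    rw [CMFlat.ker_stalkMap_eq I.subschemeι y U hxU, ← Scheme.Hom.ker_apply, Scheme.IdealSheafData.ker_subschemeι,
      hcI, Ideal.map_span, Set.image_singleton]
  have htm : t ∈ maximalIdeal (X.presheaf.stalk x) :=
    le_maximalIdeal (RingHom.ker_ne_top _) (hker.ge (Ideal.mem_span_singleton_self t))
  let e : (X.presheaf.stalk x ⧸ Ideal.span {t}) ≃+* I.subscheme.presheaf.stalk y :=
    (Ideal.quotEquivOfEq hker.symm).trans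
      (RingHom.quotientKerEquivOfSurjective (f := (I.subschemeι.stalkMap y).hom) (I.subschemeι.stalkMap_surjective y))
  haveI : IsLocalRing (X.presheaf.stalk x ⧸ Ideal.span {t}) := e.symm.isLocalRing
  haveI : IsNoetherianRing (I.subscheme.presheaf.stalk y) := isNoetherianRing_of_ringEquiv _ e
  rw [← FlatDepth.depth_ringEquiv e]
  exact depth_quot_regular htm hreg h

end Groth.Agent.LefZero
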