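import Groth.Agent.LefRel.Lef
import Groth.Agent.LeffAmple.Pic
import Groth.Agent.LefEssSurj.Pure
import Groth.Agent.LefEssSurj.FlatPurity
import Groth.Agent.LefEssSurj.PureQuot
import Groth.Agent.LefDiv.Finite
import Groth.Agent.CMFlat.Scheme
import Groth.Prelude.Def_SGA2

/-!
Relative effective Lefschetz condition for an ample divisor from depth three on the fibres, and purity of the
local rings of a flat scheme from purity of the fibre.
-/

universe u

open CategoryTheory CategoryTheory.Limits AlgebraicGeometry Opposite IsLocalRing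
open scoped TensorProduct

set_option autoImplicit false
set_option maxHeartbeats 1000000
set_option backward.isDefEq.respectTransparency false
set_option backward.isDefEq.respectTransparency.types false
set_option linter.style.haveILetI false

noncomputable section

namespace Groth.Agent.LefZero

theorem mono_tensor_of_invertible {X : Scheme.{u}} (J : X.IdealSheafData) {T : X.Modules}
    (hT : PicF.IsInvertible T) : Mono ((DCoh.tensorBi.map (ClSub.idealModι J)).app T) := by
  rw [LefRel.mono_tensor_iff]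
  intro x
  obtain ⟨ε⟩ := CurveRR.Multi.nonempty_stalk_equiv hT x
  haveI : Module.Flat (X.presheaf.stalk x) ((DerSch.stalkFunctor X x).obj T) :=
    Module.Flat.of_linearEquiv (M := X.presheaf.stalk x) ε.symm
  exact Module.Flat.rTensor_preserves_injective_linearMap _ (CompInt.istalk_injective J x)

theorem subsingleton_X₃ {X : Scheme.{u}} {S : ShortComplex X.Modules} (hS' : S.ShortExact) (i : ℕ)
    (h₂ : Subsingleton (Coh.HH X S.X₂ i)) (h₁ : Subsingleton (Coh.HH X S.X₁ (i + 1))) :
    Subsingleton (Coh.HH X S.X₃ i) :=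
  haveI := h₂
  (LefRel.surjective_of_shortExact hS' i h₁).subsingleton

/-- The effective Lefschetz condition from depth three of the fibres at their closed points. -/
theorem leffCond_of_depth_three (A : Type u) [CommRing A] [IsNoetherianRing A] {X : Scheme.{u}}
    [X.Over (Spec (CommRingCat.of A))] [IsProper (X ↘ Spec (CommRingCat.of A))]
    [Flat (X ↘ Spec (CommRingCat.of A))] {I : X.IdealSheafData} {L : X.Modules}
    (hL : ClSub.IsInverseOf L (ClSub.idealMod I)) (hamp : CohB1.IsAmple L)
    (hdepth : ∀ x : X, IsClosed ({(X ↘ Spec (CommRingCat.of A)).asFiber x} :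
        Set ↥((X ↘ Spec (CommRingCat.of A)).fiber ((X ↘ Spec (CommRingCat.of A)) x))) →
      (3 : ℕ∞) ≤ LocCoh.depth (CInt.fiberStalk (X ↘ Spec (CommRingCat.of A)) x)
        (CInt.fiberStalk (X ↘ Spec (CommRingCat.of A)) x)) :
    LefX.LeffCond X I := by
  haveI : IsLocallyNoetherian X := LocallyOfFiniteType.isLocallyNoetherian (X ↘ Spec (CommRingCat.of A))
  have h2 : ∀ x : X, IsClosed ({(X ↘ Spec (CommRingCat.of A)).asFiber x} :
        Set ↥((X ↘ Spec (CommRingCat.of A)).fiber ((X ↘ Spec (CommRingCat.of A)) x))) →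
      (2 : ℕ∞) ≤ LocCoh.depth (CInt.fiberStalk (X ↘ Spec (CommRingCat.of A)) x)
        (CInt.fiberStalk (X ↘ Spec (CommRingCat.of A)) x) :=
    fun x hx => le_trans (by norm_num) (hdepth x hx)
  obtain ⟨e⟩ := hL
  have e' : CohB1.tensorMod (ClSub.idealMod I) L ≅ Coh.structureModule X := _root_.TMul.commIso _ _ ≪≫ e
  have hi : PicF.IsInvertible (ClSub.idealMod I) := Groth.Agent.S2122.result _ _ e'
  have hL' : ClSub.IsInverseOf L (ClSub.idealMod I) := ⟨e⟩
  obtain ⟨hflat, hd⟩ := LefRel.structure_hyp A (X := X) 3 hdepth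
  obtain ⟨m₀, hm₀⟩ := LefRel.exists_vanishing A (Coh.structureModule X)
    RefStalk.isCoh_structureModule hflat 3 hd hamp hi ⟨e'⟩
  have hpow : ∀ n, m₀ ≤ n → ∀ j, j < 3 → Subsingleton (Coh.HH X (CohB1.tensorPow (ClSub.idealMod I) n) j) :=
    fun n hn j hj => CohQC.hh_subsingleton_of_iso (_root_.TMul.leftUnitIso _) j (hm₀ n hn j hj)
  refine LeffAmple.leff_of_structure A hL' hamp (LefRel.lefCond A hL' hamp h2)
    (fun P hP => LefRel.homToFormal_coherent A hL' hamp h2 P
      (K0Coh.isCoh_of_isFinLocFree (ResDesc.isFinLocFree_of_isInvertible hP)))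
    ⟨m₀, fun n hn j hj => hpow n hn j (by omega)⟩ ⟨m₀, fun n hn => ?_⟩
  have hS := LefRel.tensorSeq_shortExact I (CohB1.tensorPow (ClSub.idealMod I) n)
    (mono_tensor_of_invertible I (_root_.TMul.isInvertible_tensorPow hi n))
  refine CohQC.hh_subsingleton_of_iso (_root_.TMul.commIso _ _) 1 (subsingleton_X₃ hS 1 ?_ ?_)
  · exact hm₀ n hn 1 (by norm_num)
  · exact CohQC.hh_subsingleton_of_iso (_root_.TMul.commIso _ _) 2 (hpow (n + 1) (by omega) 2 (by norm_num))

theorem purityHolds_of_isPurePair {A : Type u} [CommRing A] [IsLocalRing A]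
    (h : SGA2.IsPurePair (Spec (CommRingCat.of A)) (FEt.puncturedSpec A)) : FEt.PurityHolds A := by
  haveI := LefEssSurj.isEquivalence_ι_of_isPurePair h
  exact (inferInstance : (FEt.restrict (FEt.puncturedSpec A).ι).EssSurj)

/-- Depth and purity of the local rings of a flat scheme from those of the fibre. -/
theorem depth_purity_of_fibre {X Y : Scheme.{u}} (f : X ⟶ Y) [IsLocallyNoetherian X] [IsLocallyNoetherian Y]
    [Flat f] (x : X) (hd : (2 : ℕ∞) ≤ LocCoh.depth (CInt.fiberStalk f x) (CInt.fiberStalk f x))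
    (hP : FEt.PurityHolds (CInt.fiberStalk f x)) :
    (2 : ℕ∞) ≤ LocCoh.depth (X.presheaf.stalk x) (X.presheaf.stalk x) ∧
      FEt.PurityHolds (X.presheaf.stalk x) := by
  refine ⟨LefDiv.le_depth_stalk_of_fibre (d := 2) f x hd, ?_⟩
  letI := (f.stalkMap x).hom.toAlgebra
  haveI : Module.Flat (Y.presheaf.stalk (f x)) (X.presheaf.stalk x) := Flat.stalkMap f x
  haveI : IsLocalHom (algebraMap (Y.presheaf.stalk (f x)) (X.presheaf.stalk x)) :=
    inferInstanceAs (IsLocalHom (f.stalkMap x).hom)
  obtain ⟨e⟩ := CMFlat.nonempty_fiberStalk_equiv f x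
  haveI : IsLocalRing (X.presheaf.stalk x ⧸ (maximalIdeal (Y.presheaf.stalk (f x))).map
      (algebraMap (Y.presheaf.stalk (f x)) (X.presheaf.stalk x))) := e.symm.isLocalRing
  haveI : IsNoetherianRing ((f.fiber (f x)).presheaf.stalk (f.asFiber x)) := isNoetherianRing_of_ringEquiv _ e
  refine LefEssSurj.purityHolds_of_fibre (Y.presheaf.stalk (f x)) _ ?_ (LefEssSurj.purityHolds_congr e hP)
  exact hd.trans (CMChart.depth_le_of_ringEquiv e.symm)

end Groth.Agent.LefZero
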